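import Groth.Agent.FrobKerLib.Main
import Groth.Agent.GrpPtsLib.FlatAt
import Groth.Agent.GrpPtsLib.LieIso
import Groth.Agent.GrpSchLib.Component
import Groth.Agent.GrpSchLib.Cartier
import Groth.Agent.GrpQuotLib.KerGrp
import Groth.Agent.MonoFibre.MonoAffine
import Groth.Agent.SepPtsLib.Basic
import Groth.Agent.ASp.PropDescend

/-!
# An isomorphism criterion for affine commutative groups by finite subgroups and points
-/

set_option autoImplicit false
set_option backward.isDefEq.respectTransparency false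
set_option linter.style.haveILetI false

universe u

open CategoryTheory CategoryTheory.Limits MonoidalCategory CartesianMonoidalCategory MonObj GrpObj AlgebraicGeometry
  IsLocalRing

noncomputable section

namespace Groth.Agent.FrobKerLib

open GrpSchLib

variable {k : Type u} [Field k]

theorem isMonHom_one {G H : Over (Spec (CommRingCat.of k))} [GrpObj G] [GrpObj H] : IsMonHom (1 : G ⟶ H) :=
  ⟨by rw [MonObj.comp_one, Hom.one_def, toUnit_unique (toUnit _) (𝟙 _), Category.id_comp],
    by rw [MonObj.comp_one, show ((1 : G ⟶ H) ⊗ₘ (1 : G ⟶ H)) = lift (fst G G ≫ 1) (snd G G ≫ 1) from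
          CartesianMonoidalCategory.hom_ext _ _ (by simp) (by simp),
        ← Hom.mul_def, MonObj.comp_one, MonObj.comp_one, _root_.mul_one]⟩

theorem mono_of_finite_and_points (K : Type u) [Field K] [IsAlgClosed K] [Algebra k K]
    {G H : Over (Spec (CommRingCat.of k))} [GrpObj G] [IsCommMonObj G] [GrpObj H]
    [IsAffine G.left] [LocallyOfFiniteType G.hom] [LocallyOfFiniteType H.hom]
    (ψ : G ⟶ H) [IsMonHom ψ]
    (hinj : ∀ (I : Over (Spec (CommRingCat.of k))) [GrpObj I] [IsCommMonObj I] [IsFinite I.hom]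
      (f g : I ⟶ G) [IsMonHom f] [IsMonHom g], f ≫ ψ = g ≫ ψ → f = g)
    (hpts : Function.Injective fun x : Over.mk (Spec.map (CommRingCat.ofHom (algebraMap k K))) ⟶ G => x ≫ ψ) :
    Mono ψ := by
  haveI : IsClosedImmersion η[H].left := isClosedImmersion_unit
  obtain ⟨_, hM⟩ := GrpQuotLib.exists_grpObj_kernel ψ
  let N : Over (Spec (CommRingCat.of k)) := pullback ψ η[H]
  let jN : N ⟶ G := pullback.fst ψ η[H]
  have hN : IsPullback jN (toUnit N) ψ η[H] := by
    rw [toUnit_unique (toUnit N) (pullback.snd ψ η[H])]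
    exact IsPullback.of_hasPullback ψ η[H]
  haveI : Mono η[H] := SplitMono.mono ⟨toUnit H, toUnit_unique _ _⟩
  haveI : Mono jN := ⟨fun g h e => hN.hom_ext e (toUnit_unique _ _)⟩
  haveI : IsMonHom jN := hM
  haveI : IsClosedImmersion jN.left :=
    MorphismProperty.of_isPullback (P := @IsClosedImmersion) (hN.map (Over.forget _)).flip ‹_›
  haveI : LocallyOfFiniteType N.hom := by rw [← Over.w jN]; infer_instance
  haveI : IsAffine N.left := isAffine_of_isAffineHom jN.left
  haveI : IsCommMonObj N := ⟨by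
    rw [← cancel_mono jN, Category.assoc, IsMonHom.mul_hom jN, ← Category.assoc]
    rw [show (β_ N N).hom ≫ (jN ⊗ₘ jN) = (jN ⊗ₘ jN) ≫ (β_ G G).hom by simp, Category.assoc, IsCommMonObj.mul_comm]⟩
  haveI : JacobsonSpace N.left := LocallyOfFiniteType.jacobsonSpace N.hom
  have hjN : jN ≫ ψ = 1 := by rw [hN.w, Hom.one_def]
  haveI : Subsingleton N.left := by
    have hu : jN.left (unitPt N) = unitPt G := by
      show jN.left (η[N].left _) = η[G].left _
      rw [← Scheme.Hom.comp_apply, ← Over.comp_left, IsMonHom.one_hom jN]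
    have hpt : ∀ z ∈ closedPoints N.left, z = unitPt N := by
      intro z hz
      obtain ⟨p, hp⟩ := SepPtsLib.exists_pt_of_closed (k := k) (K := K) z hz
      have h1 : p ≫ jN = 1 := hpts (by
        show (p ≫ jN) ≫ ψ = 1 ≫ ψ
        rw [Category.assoc, hjN, MonObj.comp_one, MonObj.one_comp])
      refine jN.left.isClosedEmbedding.injective ?_
      rw [hu, ← hp (closedPoint K)]
      exact (congrArg (fun t : Over.mk (Spec.map (CommRingCat.ofHom (algebraMap k K))) ⟶ G => t.left (closedPoint K))
        h1).trans (one_apply _ _)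
    refine ⟨fun a c => ?_⟩
    suffices ∀ z : N.left, z = unitPt N from (this a).trans (this c).symm
    intro z
    have h1 : z ∈ closure ({unitPt N} : Set N.left) :=
      closure_mono (fun w hw => hpt w hw) (by rw [closure_closedPoints]; trivial)
    rwa [(isClosed_unitPt).closure_eq] at h1
  haveI : IsFinite N.hom := isFinite_of_subsingleton N.hom
  haveI : IsMonHom (1 : N ⟶ G) := isMonHom_one
  have hj1 : jN = 1 := hinj N jN 1 (by rw [hjN, MonObj.one_comp])
  refine ⟨fun {T} x y hxy => ?_⟩
  obtain ⟨n, hn⟩ : ∃ n : T ⟶ N, n ≫ jN = x * y⁻¹ :=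
    ⟨hN.lift (x * y⁻¹) (toUnit _) (by
      rw [MonObj.mul_comp, hxy, show y⁻¹ ≫ ψ = (y ≫ ψ)⁻¹ from (IsMonHom.monoidHom ψ T).map_inv y, mul_inv_cancel,
        Hom.one_def]), hN.lift_fst _ _ _⟩
  rw [← mul_inv_eq_one, ← hn, hj1, MonObj.comp_one]

theorem isIso_of_finite_and_points (K : Type u) [Field K] [IsAlgClosed K] [Algebra k K]
    {G H : Over (Spec (CommRingCat.of k))} [GrpObj G] [IsCommMonObj G] [GrpObj H] [IsCommMonObj H]
    [IsAffine G.left] [IsAffine H.left] [LocallyOfFiniteType G.hom] [LocallyOfFiniteType H.hom]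
    (ψ : G ⟶ H) [IsMonHom ψ]
    (hinj : ∀ (I : Over (Spec (CommRingCat.of k))) [GrpObj I] [IsCommMonObj I] [IsFinite I.hom]
      (f g : I ⟶ G) [IsMonHom f] [IsMonHom g], f ≫ ψ = g ≫ ψ → f = g)
    (hsurj : ∀ (I : Over (Spec (CommRingCat.of k))) [GrpObj I] [IsCommMonObj I] [IsFinite I.hom]
      (h : I ⟶ H) [IsMonHom h], ∃ f : I ⟶ G, IsMonHom f ∧ f ≫ ψ = h)
    (hpts : Function.Bijective fun x : Over.mk (Spec.map (CommRingCat.ofHom (algebraMap k K))) ⟶ G => x ≫ ψ) :
    IsIso ψ := by
  haveI : Mono ψ := mono_of_finite_and_points K ψ hinj hpts.1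
  haveI : QuasiCompact G.hom := quasiCompact_of_compactSpace _
  haveI : QuasiCompact H.hom := quasiCompact_of_compactSpace _
  haveI : QuasiCompact (ψ.left ≫ H.hom) := by rw [Over.w ψ]; infer_instance
  haveI : QuasiCompact ψ.left := QuasiCompact.of_comp ψ.left H.hom
  haveI : IsClosedImmersion ψ.left := MonoFibre.isClosedImmersion_of_mono ψ
  haveI : Surjective ψ.left := SepPtsLib.surjective_of_algClosed_pts (K := K) ψ fun y => hpts.2 y
  suffices IsIso ψ.left by
    haveI : IsIso ((Over.forget _).map ψ) := inferInstanceAs (IsIso ψ.left)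
    exact isIso_of_reflects_iso ψ (Over.forget _)
  obtain ⟨p, hp⟩ := CharP.exists k
  rcases CharP.char_is_prime_or_zero k p with hpp | rfl
  swap
  · haveI : CharZero k := CharP.charP_to_charZero k
    haveI : Smooth H.hom := smooth_of_charZero H
    haveI : AlgebraicGeometry.IsReduced H.left := ASp.isReduced_of_smooth H.hom
    exact isIso_of_isClosedImmersion_of_surjective ψ.left
  haveI : Fact p.Prime := ⟨hpp⟩
  let A := Γ(H.left, ⊤)
  let π : A ⟶ Γ(G.left, ⊤) := ψ.left.appTop
  let ε : A ⟶ Γ(Spec (CommRingCat.of k), ⊤) := η[H].left.appTop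
  have hJ : ∀ n : ℕ, RingHom.ker π.hom ≤ RingHom.ker ε.hom ^ n := by
    intro n x hx
    obtain ⟨V, _, iV, hiV, hVc, hVf, hV⟩ := exists_frobKer (p := p) H n
    obtain ⟨f, -, hf⟩ := hsurj V iV
    refine Ideal.pow_le_pow_right (Nat.lt_pow_self hpp.one_lt).le (hV x ?_)
    rw [← hf, Over.comp_left, Scheme.Hom.comp_appTop]
    show f.left.appTop.hom (π.hom x) = 0
    rw [RingHom.mem_ker.mp hx, map_zero]
  haveI := LocallyOfFiniteType.isLocallyNoetherian H.hom
  haveI := LocallyOfFiniteType.isLocallyNoetherian G.hom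
  let eG := unitPt G
  let σ := (ψ.left.stalkMap eG).hom
  have hσ : Function.Surjective σ := ψ.left.stalkMap_surjective eG
  have hinjσ : Function.Injective σ := by
    refine (injective_iff_map_eq_zero σ).mpr fun z hz => ?_
    letI := H.left.presheaf.algebra_section_stalk (U := ⊤) ⟨ψ.left eG, trivial⟩
    haveI := (isAffineOpen_top H.left).isLocalization_stalk ⟨ψ.left eG, trivial⟩
    letI := G.left.presheaf.algebra_section_stalk (U := ⊤) ⟨eG, trivial⟩
    haveI := (isAffineOpen_top G.left).isLocalization_stalk ⟨eG, trivial⟩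
    have hnat : ∀ a : A, σ (algebraMap A (H.left.presheaf.stalk (ψ.left eG)) a) =
        algebraMap Γ(G.left, ⊤) (G.left.presheaf.stalk eG) (π.hom a) := fun a =>
      Scheme.Hom.germ_stalkMap_apply ψ.left ⊤ eG trivial a
    have hle : (RingHom.ker ε.hom).map (algebraMap A (H.left.presheaf.stalk (ψ.left eG))) ≤ maximalIdeal _ :=
      Ideal.map_le_iff_le_comap.mpr fun a ha => by
        intro hu
        have h1 := (hu.map σ).map (η[G].left.stalkMap (closedPoint k)).hom
        have h2 : (η[G].left.stalkMap (closedPoint k)).hom (σ (algebraMap A (H.left.presheaf.stalk (ψ.left eG)) a)) =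
            0 := by
          rw [hnat]
          refine (Scheme.Hom.germ_stalkMap_apply η[G].left ⊤ (closedPoint k) trivial (π.hom a)).trans ?_
          have h3 : ψ.left.appTop ≫ η[G].left.appTop = ε := by
            rw [← Scheme.Hom.comp_appTop, ← Over.comp_left, IsMonHom.one_hom ψ]
          have h4 : η[G].left.appTop.hom (π.hom a) = 0 :=
            (congrArg (fun m => m.hom a) h3).trans (RingHom.mem_ker.mp ha)
          exact (congrArg _ h4).trans (map_zero _)
        rw [h2] at h1
        exact not_isUnit_zero h1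
    obtain ⟨a, s, rfl⟩ := IsLocalization.exists_mk'_eq
      ((isAffineOpen_top H.left).primeIdealOf ⟨ψ.left eG, trivial⟩).asIdeal.primeCompl z
    have hza : σ (algebraMap _ _ a) = 0 := by
      rw [← IsLocalization.mk'_spec _ a s, map_mul, hz, zero_mul]
    rw [hnat, IsLocalization.map_eq_zero_iff
      ((isAffineOpen_top G.left).primeIdealOf ⟨eG, trivial⟩).asIdeal.primeCompl] at hza
    obtain ⟨c, hc⟩ := hza
    obtain ⟨t, ht⟩ : ∃ t : A, π.hom t = (c : Γ(G.left, ⊤)) :=
      ((IsClosedImmersion.isAffine_surjective_of_isAffine (f := ψ.left))).2 _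
    have htu : IsUnit (algebraMap A (H.left.presheaf.stalk (ψ.left eG)) t) := by
      refine isUnit_of_map_unit σ _ ?_
      rw [hnat, ht]
      exact IsLocalization.map_units (G.left.presheaf.stalk eG) c
    have hmem : algebraMap A (H.left.presheaf.stalk (ψ.left eG)) a ∈
        (⨅ n : ℕ, maximalIdeal (H.left.presheaf.stalk (ψ.left eG)) ^ n) := by
      refine Submodule.mem_iInf _ |>.mpr fun n => ?_
      rw [← Ideal.unit_mul_mem_iff_mem _ htu, ← map_mul]
      refine Ideal.pow_right_mono hle n ?_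
      rw [← Ideal.map_pow]
      exact Ideal.mem_map_of_mem _ (hJ n (by rw [RingHom.mem_ker, map_mul, ht]; exact hc))
    rw [Ideal.iInf_pow_eq_bot_of_isLocalRing _ (maximalIdeal.isMaximal _).ne_top, Ideal.mem_bot] at hmem
    rw [IsLocalization.mk'_eq_mul_mk'_one, hmem, zero_mul]
  haveI : Flat ψ.left := GrpPtsLib.flat_of_flat_at ψ eG (RingHom.Flat.of_bijective ⟨hinjσ, hσ⟩)
  haveI : LocallyOfFinitePresentation ψ.left := inferInstance
  haveI : Mono ψ.left := inferInstance
  haveI : IsOpenImmersion ψ.left := IsOpenImmersion.of_flat_of_mono ψ.left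
  exact IsOpenImmersion.isIso ψ.left

end Groth.Agent.FrobKerLib
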