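import Mathlib
import Groth.Agent.PoincareLib.GrpMono

/-!
# Frobenius kernels of commutative affine groups, as finite subgroups
-/

set_option autoImplicit false
set_option backward.isDefEq.respectTransparency false
set_option linter.style.haveILetI false

universe u

open CategoryTheory CategoryTheory.Limits MonoidalCategory CartesianMonoidalCategory MonObj AlgebraicGeometry

noncomputable section

namespace Groth.Agent.FrobKerLib

variable {k : Type u} [Field k]

/-- An affine scheme of finite type over a field with one point is finite. -/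
theorem isFinite_of_subsingleton {X : Scheme.{u}} [IsAffine X] [Subsingleton X] (c : X ⟶ Spec (CommRingCat.of k))
    [LocallyOfFiniteType c] : IsFinite c := by
  let φ : CommRingCat.of k ⟶ Γ(X, ⊤) := Spec.preimage (X.isoSpec.inv ≫ c)
  letI : Algebra k Γ(X, ⊤) := φ.hom.toAlgebra
  haveI : Algebra.FiniteType k Γ(X, ⊤) := by
    have h : LocallyOfFiniteType (Spec.map φ) := by rw [Spec.map_preimage]; infer_instance
    exact (HasRingHomProperty.Spec_iff (P := @LocallyOfFiniteType)).1 h
  haveI : Subsingleton (PrimeSpectrum Γ(X, ⊤)) := X.isoSpec.inv.isOpenEmbedding.injective.subsingleton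
  haveI : Ring.KrullDimLE 0 Γ(X, ⊤) := Ring.KrullDimLE.mk₀ fun I hI => by
    obtain ⟨M, hM, hIM⟩ := Ideal.exists_le_maximal I hI.ne_top
    have h : (⟨I, hI⟩ : PrimeSpectrum Γ(X, ⊤)) = ⟨M, hM.isPrime⟩ := Subsingleton.elim _ _
    rw [show I = M from congrArg PrimeSpectrum.asIdeal h]
    exact hM
  haveI : IsNoetherianRing Γ(X, ⊤) := Algebra.FiniteType.isNoetherianRing k _
  haveI : IsArtinianRing Γ(X, ⊤) := isArtinianRing_iff_isNoetherianRing_krullDimLE_zero.2 ⟨inferInstance, inferInstance⟩
  haveI : Module.Finite k Γ(X, ⊤) := (Module.finite_iff_isArtinianRing k _).2 inferInstance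
  haveI : IsFinite (Spec.map φ) := (IsFinite.SpecMap_iff φ).2 (RingHom.finite_algebraMap.2 ‹_›)
  have : c = X.isoSpec.hom ≫ Spec.map φ := by rw [Spec.map_preimage, Iso.hom_inv_id_assoc]
  rw [this]
  infer_instance

/-- Finite subgroups containing the infinitesimal neighbourhoods of the unit in characteristic `p`. -/
theorem exists_frobKer {p : ℕ} [Fact p.Prime] [CharP k p] (H : Over (Spec (CommRingCat.of k))) [GrpObj H]
    [IsCommMonObj H] [IsAffine H.left] [LocallyOfFiniteType H.hom] (n : ℕ) :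
    ∃ (V : Over (Spec (CommRingCat.of k))) (_ : GrpObj V) (iV : V ⟶ H),
      IsMonHom iV ∧ IsCommMonObj V ∧ IsFinite V.hom ∧
        ∀ x, iV.left.appTop.hom x = 0 → x ∈ RingHom.ker η[H].left.appTop.hom ^ (p ^ n) := by
  classical
  let q : ℕ := p ^ n
  have hq : 0 < q := pow_pos (Fact.out : p.Prime).pos n
  let A := Γ(H.left, ⊤)
  let ε : A ⟶ Γ(Spec (CommRingCat.of k), ⊤) := η[H].left.appTop
  let c : Γ(Spec (CommRingCat.of k), ⊤) ⟶ A := H.hom.appTop
  have hcε : ∀ r, ε.hom (c.hom r) = r := by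
    intro r
    have h : η[H].left ≫ H.hom = 𝟙 _ := Over.w η[H]
    have h2 : H.hom.appTop ≫ η[H].left.appTop = 𝟙 _ := by rw [← Scheme.Hom.comp_appTop, h]; rfl
    exact congrArg (fun f => f.hom r) h2
  have hp0 : ((p : ℕ) : Γ(Spec (CommRingCat.of k), ⊤)) = 0 := by
    apply (Scheme.ΓSpecIso (CommRingCat.of k)).commRingCatIsoToRingEquiv.injective
    rw [map_natCast, map_zero]
    exact CharP.cast_eq_zero k p
  have hpow : ∀ (R : Type u) [CommRing R] (_ : Γ(Spec (CommRingCat.of k), ⊤) →+* R),
      ∃ g : R →+* R, ∀ x, g x = x ^ q := by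
    intro R _ f
    rcases subsingleton_or_nontrivial R with hR | hR
    · exact ⟨RingHom.id R, fun x => Subsingleton.elim _ _⟩
    · haveI : CharP R p := (CharP.charP_iff_prime_eq_zero Fact.out).2 (by rw [← map_natCast f, hp0, map_zero])
      exact ⟨iterateFrobenius R p n, fun x => iterateFrobenius_def p n x⟩
  choose g hg using hpow
  let I : Ideal A := Ideal.span (Set.range fun a : A => (a - c.hom (ε.hom a)) ^ q)
  have hIle : I ≤ RingHom.ker ε.hom ^ q := by
    rw [Ideal.span_le]
    rintro _ ⟨a, rfl⟩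
    exact Ideal.pow_mem_pow (by rw [RingHom.mem_ker, map_sub, hcε, sub_self]) q
  let V : Over (Spec (CommRingCat.of k)) :=
    Over.mk ((Spec.map (CommRingCat.ofHom (Ideal.Quotient.mk I)) ≫ H.left.isoSpec.inv) ≫ H.hom)
  let iV : V ⟶ H := Over.homMk (Spec.map (CommRingCat.ofHom (Ideal.Quotient.mk I)) ≫ H.left.isoSpec.inv) rfl
  haveI : IsClosedImmersion (Spec.map (CommRingCat.ofHom (Ideal.Quotient.mk I))) :=
    IsClosedImmersion.spec_of_surjective _ Ideal.Quotient.mk_surjective
  haveI : IsClosedImmersion iV.left :=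
    inferInstanceAs (IsClosedImmersion (Spec.map (CommRingCat.ofHom (Ideal.Quotient.mk I)) ≫ H.left.isoSpec.inv))
  haveI : Mono iV := Over.mono_of_mono_left iV
  have hιA : iV.left.appTop = CommRingCat.ofHom (Ideal.Quotient.mk I) ≫ (Scheme.ΓSpecIso _).inv := by
    have h1 : H.left.isoSpec.inv.appTop = (Scheme.ΓSpecIso A).inv := by
      rw [← Iso.hom_comp_eq_id, ← Scheme.toSpecΓ_appTop, ← Scheme.Hom.comp_appTop]
      rw [show H.left.isoSpec.inv ≫ H.left.toSpecΓ = 𝟙 _ from H.left.isoSpec.inv_hom_id]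
      rfl
    show (Spec.map (CommRingCat.ofHom (Ideal.Quotient.mk I)) ≫ H.left.isoSpec.inv).appTop = _
    rw [Scheme.Hom.comp_appTop, h1, Scheme.ΓSpecIso_inv_naturality]
    rfl
  -- the relative Frobenius kills exactly the points of `V`
  let aff : Over (Spec (CommRingCat.of k)) → Over (Spec (CommRingCat.of k)) := fun T =>
    Over.mk (Spec.map T.hom.appTop ≫ (Spec (CommRingCat.of k)).isoSpec.inv)
  let π : ∀ T, T ⟶ aff T := fun T => Over.homMk T.left.toSpecΓ (by
    show T.left.toSpecΓ ≫ Spec.map T.hom.appTop ≫ _ = _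
    rw [← Category.assoc, ← Scheme.toSpecΓ_naturality, Category.assoc]
    exact (congrArg (T.hom ≫ ·) (Spec (CommRingCat.of k)).isoSpec.hom_inv_id).trans (Category.comp_id _))
  let ext : ∀ {T}, (T ⟶ H) → (aff T ⟶ H) := fun {T} z =>
    Over.homMk (Spec.map z.left.appTop ≫ H.left.isoSpec.inv) (by
      show (Spec.map z.left.appTop ≫ H.left.isoSpec.inv) ≫ H.hom = Spec.map T.hom.appTop ≫ _
      rw [Category.assoc, ← Scheme.isoSpec_inv_naturality, ← Category.assoc, ← Spec.map_comp,
        ← Scheme.Hom.comp_appTop, Over.w z])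
  have hπext : ∀ {T} (z : T ⟶ H), π T ≫ ext z = z := fun {T} z => by
    apply Over.OverMorphism.ext
    show T.left.toSpecΓ ≫ Spec.map z.left.appTop ≫ H.left.isoSpec.inv = z.left
    rw [← Category.assoc, ← Scheme.toSpecΓ_naturality, Category.assoc]
    exact (congrArg (z.left ≫ ·) H.left.isoSpec.hom_inv_id).trans (Category.comp_id _)
  have huniq : ∀ {T} (y y' : aff T ⟶ H), π T ≫ y = π T ≫ y' → y = y' := fun {T} y y' h => by
    apply Over.OverMorphism.ext
    refine ext_of_isAffine ?_
    have h2 := congrArg (fun m => m.left.appTop) h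
    simp only [Over.comp_left, Scheme.Hom.comp_appTop] at h2
    haveI : IsIso (π T).left.appTop := by
      rw [show (π T).left.appTop = (Scheme.ΓSpecIso Γ(T.left, ⊤)).hom from Scheme.toSpecΓ_appTop T.left]
      infer_instance
    exact (cancel_mono (π T).left.appTop).1 h2
  let frT : ∀ T : Over (Spec (CommRingCat.of k)), Over (Spec (CommRingCat.of k)) := fun T =>
    Over.mk (Spec.map (CommRingCat.ofHom (g Γ(T.left, ⊤) T.hom.appTop.hom)) ≫ (aff T).hom)
  let fr : ∀ T, frT T ⟶ aff T := fun T =>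
    Over.homMk (Spec.map (CommRingCat.ofHom (g Γ(T.left, ⊤) T.hom.appTop.hom))) rfl
  let P : ∀ {T : Over (Spec (CommRingCat.of k))}, (T ⟶ H) → Prop := fun {T} z => fr T ≫ ext z = 1
  have hext1 : ∀ {T}, ext (1 : T ⟶ H) = 1 := fun {T} => huniq _ _ (by rw [hπext, MonObj.comp_one])
  have hP : ∀ {T} (z : T ⟶ H), P z ↔ ∀ a, z.left.appTop.hom ((a - c.hom (ε.hom a)) ^ q) = 0 := by
    intro T z
    have h1 : ∀ a, (1 : T ⟶ H).left.appTop.hom a = T.hom.appTop.hom (ε.hom a) := fun a => by
      rw [Hom.one_def, Over.comp_left, Scheme.Hom.comp_appTop]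
      rfl
    have h2 : ∀ r, z.left.appTop.hom (c.hom r) = T.hom.appTop.hom r := fun r => by
      have h : H.hom.appTop ≫ z.left.appTop = T.hom.appTop := by rw [← Scheme.Hom.comp_appTop, Over.w z]
      exact congrArg (fun f => f.hom r) h
    have h3 : P z ↔ ∀ a, z.left.appTop.hom a ^ q = (1 : T ⟶ H).left.appTop.hom a ^ q := by
      constructor
      · intro h a
        have h4 : fr T ≫ ext z = fr T ≫ ext (1 : T ⟶ H) := by rw [hext1, MonObj.comp_one]; exact h
        have h5 := congrArg CommaMorphism.left h4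
        change Spec.map _ ≫ Spec.map _ ≫ H.left.isoSpec.inv = Spec.map _ ≫ Spec.map _ ≫ H.left.isoSpec.inv at h5
        rw [← Category.assoc, ← Category.assoc, cancel_mono, ← Spec.map_comp, ← Spec.map_comp] at h5
        have h6 := congrArg (fun f => f.hom a) (Spec.map_injective h5)
        exact ((hg _ _ _).symm.trans h6).trans (hg _ _ _)
      · intro h
        show fr T ≫ ext z = 1
        rw [← MonObj.comp_one (fr T), ← hext1 (T := T)]
        apply Over.OverMorphism.ext
        show Spec.map _ ≫ Spec.map _ ≫ H.left.isoSpec.inv = Spec.map _ ≫ Spec.map _ ≫ H.left.isoSpec.inv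
        rw [← Category.assoc, ← Category.assoc, ← Spec.map_comp, ← Spec.map_comp]
        congr 2
        ext a
        exact ((hg _ _ _).trans (h a)).trans (hg _ _ _).symm
    rw [h3]
    refine forall_congr' fun a => ?_
    rw [h1, map_pow, map_sub, h2]
    rcases subsingleton_or_nontrivial Γ(T.left, ⊤) with hR | hR
    · exact iff_of_true (Subsingleton.elim _ _) (Subsingleton.elim _ _)
    · haveI : CharP Γ(T.left, ⊤) p :=
        (CharP.charP_iff_prime_eq_zero Fact.out).2 (by rw [← map_natCast T.hom.appTop.hom, hp0, map_zero])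
      rw [sub_pow_char_pow, sub_eq_zero]
  have hrep : ∀ {T} (z : T ⟶ H), P z ↔ ∃ w : T ⟶ V, w ≫ iV = z := by
    intro T z
    rw [hP]
    constructor
    · intro h
      have hI : ∀ x ∈ I, z.left.appTop.hom x = 0 := fun x hx =>
        RingHom.mem_ker.mp ((Ideal.span_le.2 (by rintro _ ⟨a, rfl⟩; exact h a) : I ≤ RingHom.ker z.left.appTop.hom) hx)
      let l : T.left ⟶ V.left := T.left.toSpecΓ ≫ Spec.map (CommRingCat.ofHom (Ideal.Quotient.lift I z.left.appTop.hom hI))
      have hl : l ≫ iV.left = z.left := by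
        show (T.left.toSpecΓ ≫ Spec.map _) ≫ Spec.map _ ≫ H.left.isoSpec.inv = _
        rw [Category.assoc, ← Category.assoc (Spec.map _), ← Spec.map_comp]
        refine Eq.trans ?_ (congrArg CommaMorphism.left (hπext z))
        rfl
      refine ⟨Over.homMk l ?_, Over.OverMorphism.ext hl⟩
      show l ≫ iV.left ≫ H.hom = T.hom
      rw [← Category.assoc, hl, Over.w z]
    · rintro ⟨w, rfl⟩ a
      rw [Over.comp_left, Scheme.Hom.comp_appTop, hιA]
      show w.left.appTop.hom ((Scheme.ΓSpecIso _).inv.hom (Ideal.Quotient.mk I _)) = 0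
      rw [Ideal.Quotient.eq_zero_iff_mem.2
        (show (a - c.hom (ε.hom a)) ^ q ∈ I from Ideal.subset_span ⟨a, rfl⟩), map_zero, map_zero]
  have hmul : ∀ {T} (z w : T ⟶ H), P z → P w → P (z * w) := by
    intro T z w hz hw
    show fr T ≫ ext (z * w) = 1
    rw [show ext (z * w) = ext z * ext w from huniq _ _ (by rw [hπext, MonObj.comp_mul, hπext, hπext]),
      MonObj.comp_mul, show fr T ≫ ext z = 1 from hz, show fr T ≫ ext w = 1 from hw, _root_.mul_one]
  have hinv : ∀ {T} (z : T ⟶ H), P z → P z⁻¹ := by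
    intro T z hz
    show fr T ≫ ext z⁻¹ = 1
    rw [show ext z⁻¹ = (ext z)⁻¹ from huniq _ _ (by rw [hπext, GrpObj.comp_inv, hπext]),
      GrpObj.comp_inv, show fr T ≫ ext z = 1 from hz, inv_one]
  obtain ⟨gV, hm, hc⟩ := PoincareLib.exists_grpObj_of_mono iV P
    (fun {T} => show fr T ≫ ext (1 : T ⟶ H) = 1 by rw [hext1, MonObj.comp_one]) hmul hinv hrep
  refine ⟨V, gV, iV, hm, hc, ?_, fun x hx => hIle ?_⟩
  · haveI : Subsingleton V.left := by
      show Subsingleton (PrimeSpectrum (A ⧸ I))
      have h : ∀ P : PrimeSpectrum (A ⧸ I), P.asIdeal.comap (Ideal.Quotient.mk I) = RingHom.ker ε.hom := by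
        intro P
        have hmax : (RingHom.ker ε.hom).IsMaximal := by
          have hF : IsField Γ(Spec (CommRingCat.of k), ⊤) :=
            (Scheme.ΓSpecIso (CommRingCat.of k)).commRingCatIsoToRingEquiv.toMulEquiv.isField (Field.toIsField k)
          letI := hF.toField
          exact RingHom.ker_isMaximal_of_surjective ε.hom fun r => ⟨c.hom r, hcε r⟩
        refine (hmax.eq_of_le (Ideal.IsPrime.ne_top inferInstance) fun a ha => ?_).symm
        refine (Ideal.IsPrime.comap (Ideal.Quotient.mk I) (hK := P.2)).mem_of_pow_mem q ?_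
        have h0 : (a : A) ^ q ∈ I := Ideal.subset_span ⟨a, by
          show (a - c.hom (ε.hom a)) ^ q = a ^ q
          rw [RingHom.mem_ker.mp ha, map_zero, sub_zero]⟩
        rw [Ideal.mem_comap, Ideal.Quotient.eq_zero_iff_mem.2 h0]
        exact P.asIdeal.zero_mem
      exact ⟨fun P Q => PrimeSpectrum.ext (Ideal.comap_injective_of_surjective _ Ideal.Quotient.mk_surjective
        ((h P).trans (h Q).symm))⟩
    haveI : IsAffine V.left := inferInstanceAs (IsAffine (Spec (CommRingCat.of (A ⧸ I))))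
    haveI : LocallyOfFiniteType V.hom := inferInstanceAs (LocallyOfFiniteType (iV.left ≫ H.hom))
    exact isFinite_of_subsingleton V.hom
  · rw [hιA] at hx
    refine Ideal.Quotient.eq_zero_iff_mem.1 ?_
    apply (Scheme.ΓSpecIso (CommRingCat.of (A ⧸ I))).commRingCatIsoToRingEquiv.symm.injective
    exact hx.trans (map_zero _).symm

end Groth.Agent.FrobKerLib
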